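import Mathlib

/-!
# Torsion modules over a discrete valuation ring
-/

universe u v

open TensorProduct IsLocalRing

namespace GrothLib.DvrTors

variable {R : Type u} [CommRing R] [IsDomain R] [IsDiscreteValuationRing R] {ϖ : R}

theorem length_residueField_tensor (M : Type v) [AddCommGroup M] [Module R M] [Module.Finite R M] :
    Module.length R (ResidueField R ⊗[R] M) =
      Module.finrank (ResidueField R) (ResidueField R ⊗[R] M) := by
  rw [Module.length_eq_of_surjective (R := ResidueField R) residue_surjective,
    Module.length_eq_finrank]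

theorem length_quotient_range (hϖ : Irreducible ϖ) (M : Type v) [AddCommGroup M] [Module R M]
    [Module.Finite R M] :
    Module.length R (M ⧸ LinearMap.range (LinearMap.lsmul R M ϖ)) =
      Module.finrank (ResidueField R) (ResidueField R ⊗[R] M) := by
  have h : LinearMap.range (LinearMap.lsmul R M ϖ) = maximalIdeal R • (⊤ : Submodule R M) := by
    rw [hϖ.maximalIdeal_eq, Submodule.ideal_span_singleton_smul]
    rw [← Submodule.map_top]; rfl
  rw [← length_residueField_tensor, h]
  exact (TensorProduct.quotTensorEquivQuotSMul M (maximalIdeal R)).symm.length_eq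

theorem length_ne_top (hϖ : Irreducible ϖ) (n : ℕ) :
    ∀ (M : Type v) [AddCommGroup M] [Module R M] [Module.Finite R M],
      (∀ m : M, ϖ ^ n • m = 0) → Module.length R M ≠ ⊤ := by
  induction n with
  | zero =>
    intro M _ _ _ hM
    have : Subsingleton M := subsingleton_of_forall_eq 0 fun m => by simpa using hM m
    simp [Module.length_eq_zero_iff.2 this]
  | succ n ih =>
    intro M _ _ _ hM
    rw [Module.length_eq_add_of_exact (LinearMap.range (LinearMap.lsmul R M ϖ)).subtype _
      (Submodule.subtype_injective _) (Submodule.mkQ_surjective _)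
      (LinearMap.exact_subtype_mkQ _), length_quotient_range hϖ]
    refine WithTop.add_ne_top.2 ⟨ih _ ?_, ENat.coe_ne_top _⟩
    rintro ⟨m, y, rfl⟩
    refine Subtype.ext ?_
    simpa [pow_succ, mul_smul] using hM y

/-- `dim_k (M/ϖM)` is the length of the `ϖ`-torsion, for a module killed by a power of `ϖ`. -/
theorem length_ker_lsmul (hϖ : Irreducible ϖ) (n : ℕ) (M : Type v) [AddCommGroup M] [Module R M]
    [Module.Finite R M] (hM : ∀ m : M, ϖ ^ n • m = 0) :
    Module.length R (LinearMap.ker (LinearMap.lsmul R M ϖ)) =
      Module.finrank (ResidueField R) (ResidueField R ⊗[R] M) := by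
  let f := LinearMap.lsmul R M ϖ
  have h1 := Module.length_eq_add_of_exact (LinearMap.ker f).subtype f.rangeRestrict
    (Submodule.subtype_injective _) f.surjective_rangeRestrict
    (by rw [LinearMap.exact_iff, LinearMap.ker_rangeRestrict, Submodule.range_subtype])
  have h2 := Module.length_eq_add_of_exact (LinearMap.range f).subtype _
    (Submodule.subtype_injective _) (Submodule.mkQ_surjective _) (LinearMap.exact_subtype_mkQ _)
  rw [← length_quotient_range hϖ]
  have hr : Module.length R (LinearMap.range f) ≠ ⊤ := fun h =>
    length_ne_top hϖ n M hM (by rw [h1, h, add_top])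
  rw [h1, add_comm] at h2
  exact WithTop.add_left_cancel hr h2

end GrothLib.DvrTors
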